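/-
Transport of fusion systems along injective homomorphisms.
-/
import Cfsg.Prelude.Def_FusionComponents
import Cfsg.Agent.Fusion.Basic
import Cfsg.Agent.FusionFactor.Construct
import Cfsg.Agent.FusionFactor.ImageSaturated

set_option autoImplicit false

namespace CfsgLib.FusionTransport

open Cfsg Cfsg.FusionSystem CfsgLib.Fusion CfsgLib.FusionFactor

variable {Ω : Type*} [Group Ω] {S : Subgroup Ω} {Ω' : Type*} [Group Ω'] {S' : Subgroup Ω'}

/-- A fusion system is determined by its maps. -/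
theorem ext_of_hom {E F : FusionSystem S} (h : ∀ P, E.Hom P = F.Hom P) : E = F := by
  cases E; cases F
  congr
  exact funext h

/-- `θ` is an isomorphism of fusion systems from `F` onto `F'`. -/
structure IsSysIso (F : FusionSystem S) (F' : FusionSystem S') (θ : S →* Ω') : Prop where
  inj : Function.Injective θ
  range_eq : θ.range = S'
  fwd : ∀ (P : Subgroup Ω) (φ : P →* Ω), φ ∈ F.Hom P →
    ∃ φ' ∈ F'.Hom (imageAlong θ P), InducedAlong θ φ φ'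
  bwd : ∀ (P' : Subgroup Ω') (φ' : P' →* Ω'), φ' ∈ F'.Hom P' →
    ∃ φ ∈ F.Hom (preimageAlong θ P'), InducedAlong θ φ φ'

variable {θ : S →* Ω'}

theorem mem_imageAlong {P : Subgroup Ω} {y : Ω'} :
    y ∈ imageAlong θ P ↔ ∃ x : S, (x : Ω) ∈ P ∧ θ x = y := Iff.rfl

theorem apply_mem_imageAlong_iff (hθ : Function.Injective θ) {P : Subgroup Ω} {x : S} :
    θ x ∈ imageAlong θ P ↔ (x : Ω) ∈ P :=
  ⟨fun ⟨y, hy, he⟩ => hθ he ▸ hy, fun h => ⟨x, h, rfl⟩⟩

theorem imageAlong_le_range (P : Subgroup Ω) : imageAlong θ P ≤ θ.range := by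
  rintro _ ⟨x, -, rfl⟩; exact ⟨x, rfl⟩

theorem imageAlong_self : imageAlong θ S = θ.range := by
  rw [imageAlong, Subgroup.subgroupOf_self, ← MonoidHom.range_eq_map]

theorem imageAlong_mono {P Q : Subgroup Ω} (h : P ≤ Q) : imageAlong θ P ≤ imageAlong θ Q := by
  rintro _ ⟨x, hx, rfl⟩; exact ⟨x, h hx, rfl⟩

theorem imageAlong_bot : imageAlong θ (⊥ : Subgroup Ω) = ⊥ := by
  rw [imageAlong, Subgroup.bot_subgroupOf, Subgroup.map_bot]

theorem imageAlong_sup {P Q : Subgroup Ω} (hP : P ≤ S) (hQ : Q ≤ S) :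
    imageAlong θ (P ⊔ Q) = imageAlong θ P ⊔ imageAlong θ Q := by
  rw [imageAlong, imageAlong, imageAlong, Subgroup.subgroupOf_sup hP hQ, Subgroup.map_sup]

theorem preimageAlong_imageAlong (hθ : Function.Injective θ) {P : Subgroup Ω} (hP : P ≤ S) :
    preimageAlong θ (imageAlong θ P) = P := by
  ext x
  rw [mem_preimageAlong]
  exact ⟨fun ⟨h, h'⟩ => (apply_mem_imageAlong_iff hθ (x := ⟨x, h⟩)).1 h',
    fun h => ⟨hP h, ⟨x, hP h⟩, h, rfl⟩⟩

theorem imageAlong_preimageAlong {P' : Subgroup Ω'} (h : P' ≤ θ.range) :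
    imageAlong θ (preimageAlong θ P') = P' := by
  refine le_antisymm ?_ fun y hy => ?_
  · rintro _ ⟨x, hx, rfl⟩
    exact (mem_preimageAlong.1 hx).2
  · obtain ⟨s, rfl⟩ := h hy
    exact ⟨s, mem_preimageAlong.2 ⟨s.2, hy⟩, rfl⟩

/-- Being induced, evaluated pointwise. -/
theorem induced_apply {P : Subgroup Ω} {φ : P →* Ω} {P' : Subgroup Ω'} {φ' : P' →* Ω'}
    (h : InducedAlong θ φ φ') (x : P) (hx : (x : Ω) ∈ S) (hφx : φ x ∈ S) (hx' : θ ⟨x, hx⟩ ∈ P') :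
    φ' ⟨θ ⟨x, hx⟩, hx'⟩ = θ ⟨φ x, hφx⟩ := by
  obtain ⟨_, _, _, h4⟩ := h
  exact h4 x

/-- An isomorphism onto the image of a system exists. -/
theorem exists_image [Finite S] (F : FusionSystem S) (θ : S →* Ω') (hθ : Function.Injective θ) :
    ∃ F' : FusionSystem θ.range, F.IsFactorSystem ⊥ θ F' := by
  have hbot : F.StronglyClosed ⊥ := ⟨bot_le, fun R hR φ hφ x => by
    have h : (x : Ω) = 1 := hR x.2
    rw [show x = 1 from Subtype.ext h, map_one]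
    exact one_mem _⟩
  refine ⟨_, isFactorSystem_factorSystem F ⊥ hbot θ (fun s => ?_) θ.range rfl⟩
  rw [Subgroup.mem_bot]
  exact ⟨fun h => by rw [hθ (h.trans (map_one θ).symm)]; rfl,
    fun h => by rw [show s = 1 from Subtype.ext h, map_one]⟩

variable {F : FusionSystem S} {F' : FusionSystem S'}

/-- A factor system modulo the trivial subgroup is an isomorphic copy. -/
theorem of_isFactorSystem (h : F.IsFactorSystem ⊥ θ F') : IsSysIso F F' θ := by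
  obtain ⟨-, hker, hrange, hHom⟩ := h
  have hθ : Function.Injective θ := (injective_iff_map_eq_one θ).2 fun s hs => Subtype.ext ((hker s).1 hs)
  refine ⟨hθ, hrange, fun P φ hφ => ?_, fun P' φ' hφ' => ((hHom P' φ').1 hφ').2⟩
  have hP : P ≤ S := Fusion.le_left hφ
  obtain ⟨φ', hind⟩ := exists_induced (P' := imageAlong θ P) hP (Fusion.apply_mem hφ)
    (fun x => ⟨⟨x, hP x.2⟩, x.2, rfl⟩)
    (fun y => by obtain ⟨x, hx, hxy⟩ := y.2; exact ⟨⟨x, hx⟩, hxy⟩)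
    (fun x hx => by
      have h1 : x = 1 := Subtype.ext ((hker _).1 hx)
      simp only [h1, map_one]
      exact map_one θ)
  refine ⟨φ', (hHom _ φ').2 ⟨hrange ▸ imageAlong_le_range P, ?_⟩, hind⟩
  have key : ∀ Q : Subgroup Ω, Q = P → ∃ χ ∈ F.Hom Q, InducedAlong θ χ φ' := by
    rintro Q rfl; exact ⟨φ, hφ, hind⟩
  exact key _ (preimageAlong_imageAlong hθ hP)

theorem IsSysIso.apply_mem (h : IsSysIso F F' θ) (s : S) : θ s ∈ S' := h.range_eq ▸ ⟨s, rfl⟩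

theorem IsSysIso.image_le (h : IsSysIso F F' θ) (P : Subgroup Ω) : imageAlong θ P ≤ S' :=
  h.range_eq ▸ imageAlong_le_range P

theorem IsSysIso.image_self (h : IsSysIso F F' θ) : imageAlong θ S = S' :=
  imageAlong_self.trans h.range_eq

/-- The inverse of an injective homomorphism. -/
noncomputable def invHom (θ : S →* Ω') (hθ : Function.Injective θ) (hr : θ.range = S') : S' →* Ω :=
  S.subtype.comp ((MonoidHom.ofInjective hθ).symm.toMonoidHom.comp (Subgroup.inclusion hr.ge))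

theorem invHom_apply (hθ : Function.Injective θ) (hr : θ.range = S') (s : S) (h : θ s ∈ S') :
    invHom θ hθ hr ⟨θ s, h⟩ = s := by
  show (((MonoidHom.ofInjective hθ).symm ⟨θ s, _⟩ : S) : Ω) = s
  congr 1
  exact (MonoidHom.ofInjective hθ).symm_apply_eq.2 (Subtype.ext rfl)

/-- The inverse of an isomorphism of systems. -/
theorem IsSysIso.symm (h : IsSysIso F F' θ) : IsSysIso F' F (invHom θ h.inj h.range_eq) := by
  set ψ := invHom θ h.inj h.range_eq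
  have hval : ∀ y : S', ∃ s : S, θ s = y ∧ ψ y = s := by
    rintro ⟨y, hy⟩
    obtain ⟨s, rfl⟩ := h.range_eq.ge hy
    exact ⟨s, rfl, invHom_apply _ _ s hy⟩
  refine ⟨fun a b hab => ?_, ?_, fun P' φ' hφ' => ?_, fun P φ hφ => ?_⟩
  · obtain ⟨s, hs, hs'⟩ := hval a
    obtain ⟨t, ht, ht'⟩ := hval b
    rw [hs', ht'] at hab
    exact Subtype.ext (by rw [← hs, ← ht, Subtype.ext hab])
  · ext x
    constructor
    · rintro ⟨y, rfl⟩
      obtain ⟨s, -, hs'⟩ := hval y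
      exact hs' ▸ s.2
    · intro hx
      exact ⟨⟨θ ⟨x, hx⟩, h.apply_mem _⟩, invHom_apply _ _ ⟨x, hx⟩ _⟩
  · -- forward along the inverse
    obtain ⟨φ, hφ, hind⟩ := h.bwd P' φ' hφ'
    have hP' : P' ≤ S' := Fusion.le_left hφ'
    have heq : imageAlong ψ P' = preimageAlong θ P' := by
      ext x
      rw [mem_preimageAlong]
      constructor
      · rintro ⟨y, hy, rfl⟩
        obtain ⟨s, hs, hs'⟩ := hval y
        refine ⟨hs' ▸ s.2, ?_⟩
        simp only [hs']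
        exact hs ▸ hy
      · rintro ⟨hx, hx'⟩
        exact ⟨⟨θ ⟨x, hx⟩, h.apply_mem _⟩, hx', invHom_apply _ _ ⟨x, hx⟩ _⟩
    have key : ∀ Q : Subgroup Ω, Q = preimageAlong θ P' → (∀ y : P', ψ ⟨y, hP' y.2⟩ ∈ Q) →
        ∃ χ ∈ F.Hom Q, InducedAlong ψ φ' χ := by
      rintro Q rfl hQ
      refine ⟨φ, hφ, hP', Fusion.apply_mem hφ', hQ, fun y => ?_⟩
      obtain ⟨s, hs, hs'⟩ := hval ⟨y, hP' y.2⟩
      have h1 := induced_apply hind ⟨ψ ⟨y, hP' y.2⟩, hQ y⟩ (preimageAlong_le θ _ (hQ y))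
        (Fusion.apply_mem hφ _) (mem_preimageAlong.1 (hQ y)).2
      have e : (⟨θ ⟨ψ ⟨y, hP' y.2⟩, preimageAlong_le θ _ (hQ y)⟩,
          (mem_preimageAlong.1 (hQ y)).2⟩ : P') = y := by
        refine Subtype.ext ?_
        show θ ⟨ψ ⟨y, hP' y.2⟩, _⟩ = (y : Ω')
        simp only [hs']
        exact hs
      rw [e] at h1
      simp only [h1]
      rw [invHom_apply]
    exact key _ heq fun y => ⟨_, y.2, rfl⟩
  · -- backward along the inverse
    obtain ⟨φ', hφ', hind⟩ := h.fwd P φ hφ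
    have hP : P ≤ S := Fusion.le_left hφ
    have heq : preimageAlong ψ P = imageAlong θ P := by
      ext y
      rw [mem_preimageAlong]
      constructor
      · rintro ⟨hy, hy'⟩
        obtain ⟨s, hs, hs'⟩ := hval ⟨y, hy⟩
        exact ⟨s, Subgroup.mem_subgroupOf.2 (hs' ▸ hy'), hs⟩
      · rintro ⟨s, hs, rfl⟩
        exact ⟨h.apply_mem s, by rw [invHom_apply]; exact Subgroup.mem_subgroupOf.1 hs⟩
    have key : ∀ Q : Subgroup Ω', Q = imageAlong θ P → ∀ (hQS : Q ≤ S'),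
        (∀ x : Q, ψ ⟨x, hQS x.2⟩ ∈ P) → ∃ χ ∈ F'.Hom Q, InducedAlong ψ χ φ := by
      rintro Q rfl hQS hQ
      refine ⟨φ', hφ', hQS, Fusion.apply_mem hφ', hQ, fun x => ?_⟩
      obtain ⟨s, hs, hs'⟩ := hval ⟨x, hQS x.2⟩
      have hsP : (s : Ω) ∈ P := hs' ▸ hQ x
      have e : (⟨ψ ⟨x, hQS x.2⟩, hQ x⟩ : P) = ⟨s, hsP⟩ := Subtype.ext hs'
      rw [e]
      have h1 := induced_apply hind ⟨s, hsP⟩ s.2 (Fusion.apply_mem hφ _) ⟨s, hsP, rfl⟩
      have e' : (⟨θ ⟨s, s.2⟩, ⟨s, hsP, rfl⟩⟩ : imageAlong θ P) = x := Subtype.ext hs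
      rw [e'] at h1
      simp only [h1]
      rw [invHom_apply]
    exact key _ heq (preimageAlong_le ψ P) fun x => (mem_preimageAlong.1 x.2).2

theorem IsSysIso.imageAlong_invHom (h : IsSysIso F F' θ) {P : Subgroup Ω} (hP : P ≤ S) :
    imageAlong (invHom θ h.inj h.range_eq) (imageAlong θ P) = P := by
  ext x
  constructor
  · rintro ⟨⟨y, hy⟩, ⟨s, hs, rfl⟩, rfl⟩
    rw [invHom_apply]
    exact hs
  · intro hx
    exact ⟨⟨θ ⟨x, hP hx⟩, h.apply_mem _⟩, ⟨⟨x, hP hx⟩, hx, rfl⟩, invHom_apply _ _ ⟨x, hP hx⟩ _⟩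

/-- An isomorphic copy of a saturated system is saturated. -/
theorem IsSysIso.isSaturated [Finite S] {p : ℕ} [Fact p.Prime] (h : IsSysIso F F' θ)
    (hS : IsPGroup p S) (hF : F.IsSaturated p) : F'.IsSaturated p :=
  isSaturated_of_isSurjectiveMorphism hS hF
    ⟨⟨h.apply_mem, h.fwd⟩, h.range_eq, fun P' _ φ' hφ' => h.bwd P' φ' hφ'⟩

/-- An isomorphic copy determines the system. -/
theorem IsSysIso.eq {F'' : FusionSystem S'} (h : IsSysIso F F' θ) (h' : IsSysIso F F'' θ) :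
    F' = F'' := by
  have key : ∀ G₁ G₂ : FusionSystem S', IsSysIso F G₁ θ → IsSysIso F G₂ θ → ∀ P', G₁.Hom P' ⊆ G₂.Hom P' := by
    intro G₁ G₂ h₁ h₂ P' φ' hφ'
    have hP' : P' ≤ θ.range := h₁.range_eq.symm ▸ Fusion.le_left hφ'
    obtain ⟨φ, hφ, hind⟩ := h₁.bwd P' φ' hφ'
    obtain ⟨χ, hχ, hind'⟩ := h₂.fwd _ φ hφ
    refine mem_of_agree hχ (imageAlong_preimageAlong hP').ge fun y => ?_
    obtain ⟨s, hs⟩ := hP' y.2
    have hsP : (s : Ω) ∈ preimageAlong θ P' := mem_preimageAlong.2 ⟨s.2, by rw [hs]; exact y.2⟩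
    have h1 := induced_apply hind ⟨s, hsP⟩ s.2 (Fusion.apply_mem hφ _) (hs ▸ y.2)
    have h2 := induced_apply hind' ⟨s, hsP⟩ s.2 (Fusion.apply_mem hφ _) ⟨s, hsP, rfl⟩
    have e1 : (⟨θ ⟨s, s.2⟩, hs ▸ y.2⟩ : P') = y := Subtype.ext hs
    have e2 : (⟨θ ⟨s, s.2⟩, ⟨s, hsP, rfl⟩⟩ : imageAlong θ (preimageAlong θ P')) =
        Subgroup.inclusion (imageAlong_preimageAlong hP').ge y := Subtype.ext hs
    rw [e1] at h1
    rw [e2] at h2
    exact h1.trans h2.symm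
  exact ext_of_hom fun P => Set.Subset.antisymm (key F' F'' h h' P) (key F'' F' h' h P)

/-! ### Automorphisms -/

/-- An automorphism in `F` is carried to one in `F'`. -/
theorem IsSysIso.aut_fwd (h : IsSysIso F F' θ) {P : Subgroup Ω} (hP : P ≤ S) {α : MulAut P}
    (hα : α ∈ F.autGroup P) : ∃ α' ∈ F'.autGroup (imageAlong θ P),
      ∀ (x : P) (hx : θ ⟨x, hP x.2⟩ ∈ imageAlong θ P),
        ((α' ⟨θ ⟨x, hP x.2⟩, hx⟩ : imageAlong θ P) : Ω') = θ ⟨(α x : P), hP (α x).2⟩ := by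
  have hiso := (mem_autGroup_iff hP).1 hα
  obtain ⟨φ', hφ', hind⟩ := h.fwd P _ hiso
  have hr : φ'.range = imageAlong θ P := by
    ext y
    constructor
    · rintro ⟨⟨_, s, hs, rfl⟩, rfl⟩
      rw [induced_apply hind ⟨s, hs⟩ s.2 (hP (α _).2) ⟨s, hs, rfl⟩]
      exact ⟨_, (α _).2, rfl⟩
    · rintro ⟨s, hs, rfl⟩
      set x : P := α.symm ⟨s, Subgroup.mem_subgroupOf.1 hs⟩ with hxdef
      refine ⟨⟨θ ⟨x, hP x.2⟩, ⟨_, x.2, rfl⟩⟩, ?_⟩
      refine (induced_apply hind x (hP x.2) (hP (α x).2) _).trans (congrArg θ (Subtype.ext ?_))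
      show ((α x : P) : Ω) = s
      rw [hxdef, MulEquiv.apply_symm_apply]
  obtain ⟨e, he, hev⟩ := exists_iso hφ' hr
  refine ⟨e, he.mem_autGroup, fun x hx => ?_⟩
  rw [hev]
  exact induced_apply hind x (hP x.2) (hP (α x).2) hx

/-- An automorphism in `F'` of an image comes from one in `F`. -/
theorem IsSysIso.aut_bwd (h : IsSysIso F F' θ) {P : Subgroup Ω} (hP : P ≤ S)
    {α' : MulAut (imageAlong θ P)} (hα' : α' ∈ F'.autGroup (imageAlong θ P)) :
    ∃ α ∈ F.autGroup P, ∀ (x : P) (hx : θ ⟨x, hP x.2⟩ ∈ imageAlong θ P),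
        ((α' ⟨θ ⟨x, hP x.2⟩, hx⟩ : imageAlong θ P) : Ω') = θ ⟨(α x : P), hP (α x).2⟩ := by
  have hiso := (mem_autGroup_iff (h.image_le P)).1 hα'
  obtain ⟨φ₀, hφ₀, hind₀⟩ := h.bwd _ _ hiso
  have hle : P ≤ preimageAlong θ (imageAlong θ P) := (preimageAlong_imageAlong h.inj hP).ge
  have hφ := Fusion.restrict_mem hφ₀ hle
  have hv : ∀ (x : P) (hx : θ ⟨x, hP x.2⟩ ∈ imageAlong θ P),
      ((α' ⟨θ ⟨x, hP x.2⟩, hx⟩ : imageAlong θ P) : Ω') =
        θ ⟨restrictHom φ₀ hle x, Fusion.apply_mem hφ x⟩ :=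
    fun x hx => induced_apply hind₀ (Subgroup.inclusion hle x) (hP x.2) (Fusion.apply_mem hφ x) hx
  have hr : (restrictHom φ₀ hle).range = P := by
    ext y
    constructor
    · rintro ⟨x, rfl⟩
      refine (apply_mem_imageAlong_iff h.inj (x := ⟨_, Fusion.apply_mem hφ x⟩)).1 ?_
      rw [← hv x ⟨_, x.2, rfl⟩]
      exact (α' _).2
    · intro hy
      obtain ⟨s, hs, hsy⟩ := (α'.symm ⟨θ ⟨y, hP hy⟩, ⟨_, hy, rfl⟩⟩).2
      refine ⟨⟨s, hs⟩, ?_⟩
      have h1 := hv ⟨s, hs⟩ ⟨s, hs, rfl⟩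
      have e : (⟨θ ⟨s, hP hs⟩, ⟨s, hs, rfl⟩⟩ : imageAlong θ P) =
          α'.symm ⟨θ ⟨y, hP hy⟩, ⟨_, hy, rfl⟩⟩ := Subtype.ext hsy
      rw [e, MulEquiv.apply_symm_apply] at h1
      exact congrArg Subtype.val (h.inj h1).symm
  obtain ⟨e, he, hev⟩ := exists_iso hφ hr
  refine ⟨e, he.mem_autGroup, fun x hx => ?_⟩
  rw [hv x hx]
  congr 1
  exact Subtype.ext (hev x).symm

end CfsgLib.FusionTransport
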