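/-
Normality, subnormality and the hyperfocal subgroup are invariant under isomorphisms of fusion systems.
-/
import Cfsg.Agent.FusionTransport.Basic

set_option autoImplicit false

namespace CfsgLib.FusionTransport

open Cfsg Cfsg.FusionSystem CfsgLib.Fusion CfsgLib.FusionFactor

variable {Ω : Type*} [Group Ω] {S : Subgroup Ω} {Ω' : Type*} [Group Ω'] {S' : Subgroup Ω'}
  {F : FusionSystem S} {F' : FusionSystem S'} {θ : S →* Ω'}

theorem imageAlong_comp {T P : Subgroup Ω} (hT : T ≤ S) (hP : P ≤ T) :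
    imageAlong (θ.comp (Subgroup.inclusion hT)) P = imageAlong θ P := by
  ext y
  exact ⟨fun ⟨x, hx, he⟩ => ⟨Subgroup.inclusion hT x, hx, he⟩,
    fun ⟨x, hx, he⟩ => ⟨⟨x, hP hx⟩, hx, he⟩⟩

theorem range_comp_inclusion {T : Subgroup Ω} (hT : T ≤ S) :
    (θ.comp (Subgroup.inclusion hT)).range = imageAlong θ T := by
  rw [← imageAlong_self, imageAlong_comp hT le_rfl]

theorem imageAlong_centralizerIn (h : IsSysIso F F' θ) {T : Subgroup Ω} (hT : T ≤ S) :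
    imageAlong θ (centralizerIn S T) = centralizerIn S' (imageAlong θ T) := by
  ext y
  rw [mem_centralizerIn']
  constructor
  · rintro ⟨c, hc, rfl⟩
    refine ⟨h.apply_mem c, ?_⟩
    rintro _ ⟨t, ht, rfl⟩
    rw [← map_inv, ← map_mul, ← map_mul]
    exact congrArg θ (Subtype.ext ((mem_centralizerIn'.1 (Subgroup.mem_subgroupOf.1 hc)).2 _
      (Subgroup.mem_subgroupOf.1 ht)))
  · rintro ⟨hy, hy'⟩
    obtain ⟨c, rfl⟩ := h.range_eq.ge hy
    refine ⟨c, Subgroup.mem_subgroupOf.2 (mem_centralizerIn'.2 ⟨c.2, fun t ht => ?_⟩), rfl⟩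
    have h1 := hy' (θ ⟨t, hT ht⟩) ⟨_, ht, rfl⟩
    rw [← map_inv, ← map_mul, ← map_mul] at h1
    exact congrArg Subtype.val (h.inj h1)

/-- The image of a subsystem, as an isomorphic copy. -/
theorem exists_restrict [Finite S] (h : IsSysIso F F' θ) {T : Subgroup Ω} (hT : T ≤ S)
    (E : FusionSystem T) :
    ∃ E' : FusionSystem (imageAlong θ T), IsSysIso E E' (θ.comp (Subgroup.inclusion hT)) := by
  have hfin : Finite T := Fusion.finite_of_le hT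
  obtain ⟨E', hE'⟩ := exists_image E (θ.comp (Subgroup.inclusion hT))
    (h.inj.comp (Subgroup.inclusion_injective hT))
  exact range_comp_inclusion (θ := θ) hT ▸ ⟨E', of_isFactorSystem hE'⟩

/-- The image of a subsystem is a subsystem. -/
theorem isSubsystemOf_image (h : IsSysIso F F' θ) {T : Subgroup Ω} (hT : T ≤ S) {E : FusionSystem T}
    (hE : E.IsSubsystemOf F) {T' : Subgroup Ω'} {E' : FusionSystem T'}
    (h' : IsSysIso E E' (θ.comp (Subgroup.inclusion hT))) : E'.IsSubsystemOf F' := by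
  intro P' φ' hφ'
  obtain ⟨φ, hφ, hind⟩ := h'.bwd P' φ' hφ'
  obtain ⟨χ, hχ, hind'⟩ := h.fwd _ φ (hE _ hφ)
  have hP' : P' ≤ (θ.comp (Subgroup.inclusion hT)).range := h'.range_eq.symm ▸ Fusion.le_left hφ'
  have heq : imageAlong θ (preimageAlong (θ.comp (Subgroup.inclusion hT)) P') = P' :=
    (imageAlong_comp hT (preimageAlong_le _ _)).symm.trans (imageAlong_preimageAlong hP')
  refine mem_of_agree hχ heq.ge fun y => ?_
  obtain ⟨s, hs, hsy⟩ := mem_imageAlong.1 (heq.ge y.2)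
  have h2 := induced_apply hind' ⟨s, hs⟩ s.2 (Fusion.apply_mem (hE _ hφ) _) (mem_imageAlong.2 ⟨s, hs, rfl⟩)
  have h1 := induced_apply hind ⟨s, hs⟩ (preimageAlong_le _ _ hs) (Fusion.apply_mem hφ _)
    (hsy ▸ y.2)
  have e1 : (⟨θ.comp (Subgroup.inclusion hT) ⟨s, preimageAlong_le _ _ hs⟩, hsy ▸ y.2⟩ : P') = y :=
    Subtype.ext hsy
  have e2 : (⟨θ ⟨s, s.2⟩, mem_imageAlong.2 ⟨s, hs, rfl⟩⟩ : imageAlong θ _) = Subgroup.inclusion heq.ge y :=
    Subtype.ext hsy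
  rw [e1] at h1
  rw [e2] at h2
  exact h1.trans h2.symm

/-- The image of a strongly closed subgroup is strongly closed. -/
theorem stronglyClosed_image (h : IsSysIso F F' θ) {T : Subgroup Ω} (hT : F.StronglyClosed T) :
    F'.StronglyClosed (imageAlong θ T) := by
  refine ⟨h.image_le T, fun R hR φ' hφ' x => ?_⟩
  obtain ⟨φ, hφ, hind⟩ := h.bwd R φ' hφ'
  obtain ⟨s, hs, hsx⟩ := hR x.2
  have hsR : (s : Ω) ∈ preimageAlong θ R := mem_preimageAlong.2 ⟨s.2, hsx ▸ x.2⟩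
  have h1 := induced_apply hind ⟨s, hsR⟩ s.2 (Fusion.apply_mem hφ _) (hsx ▸ x.2)
  rw [show (⟨θ ⟨s, s.2⟩, hsx ▸ x.2⟩ : R) = x from Subtype.ext hsx] at h1
  rw [h1]
  refine ⟨_, hT.2 _ ?_ φ hφ _, rfl⟩
  intro z hz
  obtain ⟨hzS, hzR⟩ := mem_preimageAlong.1 hz
  exact (apply_mem_imageAlong_iff h.inj (x := ⟨z, hzS⟩)).1 (hR hzR)

/-- The image of a normal subsystem is normal. -/
theorem isNormalIn_image [Finite S] {p : ℕ} [Fact p.Prime] (hS : IsPGroup p S)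
    (h : IsSysIso F F' θ) {T : Subgroup Ω} (hT : T ≤ S) {E : FusionSystem T} (hE : E.IsNormalIn F p)
    {T' : Subgroup Ω'} {E' : FusionSystem T'} (h' : IsSysIso E E' (θ.comp (Subgroup.inclusion hT))) :
    E'.IsNormalIn F' p := by
  obtain ⟨⟨hEs, hFs, hsub, hsc, hinv, hfrat⟩, hext⟩ := hE
  obtain rfl : T' = imageAlong θ T := h'.range_eq.symm.trans (range_comp_inclusion hT)
  have hfin : Finite T := Fusion.finite_of_le hT
  have hTp : IsPGroup p T := hS.to_le hT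
  refine ⟨⟨h'.isSaturated hTp hEs, h.isSaturated hS hFs, isSubsystemOf_image h hT hsub h',
    stronglyClosed_image h hsc, ?_, ?_⟩, ?_⟩
  · -- invariance
    intro P' hP' φ' hφ' α' hα'
    obtain ⟨α, hα, hαv⟩ := h.aut_bwd hT hα'
    obtain ⟨φ, hφ, hind⟩ := h'.bwd P' φ' hφ'
    have hPT : preimageAlong (θ.comp (Subgroup.inclusion hT)) P' ≤ T := preimageAlong_le _ _
    obtain ⟨χ, hχ, hχv⟩ := hinv _ hPT φ hφ α hα
    obtain ⟨χ', hχ', hind'⟩ := h'.fwd _ χ hχ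
    let Q := ((preimageAlong (θ.comp (Subgroup.inclusion hT)) P').subgroupOf T).map (T.subtype.comp α.toMonoidHom)
    have hQ : ∀ y ∈ (P'.subgroupOf (imageAlong θ T)).map
        ((imageAlong θ T).subtype.comp α'.toMonoidHom),
        y ∈ imageAlong (θ.comp (Subgroup.inclusion hT)) Q := by
      rintro _ ⟨⟨_, s, hs, rfl⟩, hz, rfl⟩
      refine ⟨α ⟨s, hs⟩, ⟨⟨s, hs⟩, mem_preimageAlong.2 ⟨hs, hz⟩, rfl⟩, ?_⟩
      exact (hαv ⟨s, hs⟩ ⟨s, hs, rfl⟩).symm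
    refine ⟨_, Fusion.restrict_mem hχ' hQ, fun x hφx hαx => ?_⟩
    obtain ⟨t, ht, htx⟩ := hP' x.2
    have htP : (t : Ω) ∈ preimageAlong (θ.comp (Subgroup.inclusion hT)) P' := mem_preimageAlong.2 ⟨ht, by
      show θ _ ∈ P'
      exact htx ▸ x.2⟩
    have hφtT : φ ⟨t, htP⟩ ∈ T := Fusion.apply_mem hφ _
    have hαQ : ((α ⟨t, hPT htP⟩ : T) : Ω) ∈ Q := ⟨⟨t, hPT htP⟩, htP, rfl⟩
    have h1 := hχv ⟨t, htP⟩ hφtT hαQ
    have h2 := induced_apply hind' ⟨_, hαQ⟩ (α _).2 (Fusion.apply_mem hχ _) ⟨_, hαQ, rfl⟩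
    have h3 := induced_apply hind ⟨t, htP⟩ ht hφtT (mem_preimageAlong.1 htP).2
    rw [show (⟨_, (mem_preimageAlong.1 htP).2⟩ : P') = x from Subtype.ext htx] at h3
    show χ' ⟨_, hQ _ hαx⟩ = _
    have e : ((α' ⟨x, hP' x.2⟩ : imageAlong θ T) : Ω') = θ ⟨(α ⟨t, ht⟩ : T), hT (α _).2⟩ := by
      rw [← hαv ⟨t, ht⟩ ⟨t, ht, rfl⟩]
      congr 2
      exact Subtype.ext htx.symm
    have e2 : (⟨((α' ⟨x, hP' x.2⟩ : imageAlong θ T) : Ω'), hQ _ hαx⟩ :
        imageAlong (θ.comp (Subgroup.inclusion hT)) Q) = ⟨_, ⟨_, hαQ, rfl⟩⟩ := Subtype.ext e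
    rw [e2, h2]
    have e3 : ((α' ⟨φ' x, hφx⟩ : imageAlong θ T) : Ω') =
        θ ⟨(α ⟨φ ⟨t, htP⟩, hφtT⟩ : T), hT (α _).2⟩ := by
      rw [← hαv ⟨φ ⟨t, htP⟩, hφtT⟩ ⟨_, hφtT, rfl⟩]
      congr 2
      exact Subtype.ext h3
    rw [e3]
    exact congrArg θ (Subtype.ext h1)
  · -- Frattini
    intro P' hP' φ' hφ'
    obtain ⟨φ, hφ, hind⟩ := h.bwd P' φ' hφ'
    have hPT : preimageAlong θ P' ≤ T := fun z hz => by
      obtain ⟨hzS, hzP⟩ := mem_preimageAlong.1 hz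
      exact (apply_mem_imageAlong_iff h.inj (x := ⟨z, hzS⟩)).1 (hP' hzP)
    obtain ⟨α, hα, φ₀, hφ₀, hv⟩ := hfrat _ hPT φ hφ
    obtain ⟨α', hα', hαv⟩ := h.aut_fwd hT hα
    obtain ⟨φ₀', hφ₀', hind₀⟩ := h'.fwd _ φ₀ hφ₀
    have hle : P' ≤ imageAlong (θ.comp (Subgroup.inclusion hT)) (preimageAlong θ P') := by
      rw [imageAlong_comp hT hPT, imageAlong_preimageAlong (h.range_eq.symm ▸ hP'.trans (h.image_le T))]
    refine ⟨α', hα', _, Fusion.restrict_mem hφ₀' hle, fun x hx => ?_⟩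
    obtain ⟨t, ht, htx⟩ := hle x.2
    have htT : (t : Ω) ∈ T := t.2
    have h1 := induced_apply hind₀ ⟨t, ht⟩ t.2 (Fusion.apply_mem hφ₀ _) ⟨t, ht, rfl⟩
    have h2 := induced_apply hind ⟨t, ht⟩ (hT t.2) (Fusion.apply_mem hφ _) (mem_preimageAlong.1 ht).2
    refine ((congrArg φ' (Subtype.ext htx.symm)).trans h2).trans ?_
    have h3 := hαv ⟨φ₀ ⟨t, ht⟩, Fusion.apply_mem hφ₀ _⟩ ⟨_, Fusion.apply_mem hφ₀ _, rfl⟩
    rw [show (⟨θ ⟨φ₀ ⟨t, ht⟩, _⟩, ⟨_, Fusion.apply_mem hφ₀ ⟨t, ht⟩, rfl⟩⟩ : imageAlong θ T) =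
      ⟨restrictHom φ₀' hle x, hx⟩ from Subtype.ext (by
        show _ = φ₀' _
        rw [show Subgroup.inclusion hle x = ⟨_, ⟨t, ht, rfl⟩⟩ from Subtype.ext htx.symm]
        exact h1.symm)] at h3
    rw [h3]
    exact congrArg θ (Subtype.ext (hv ⟨t, ht⟩ (Fusion.apply_mem hφ₀ _)))
  · -- extension
    intro α' hα'
    have hT' : T ≤ T := le_rfl
    have key : ∀ (V : Subgroup Ω') (hV : V = imageAlong (θ.comp (Subgroup.inclusion hT)) T)
        (β : MulAut V), β ∈ E'.autGroup V → ∃ α ∈ E.autGroup T,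
          ∀ (x : T) (hx : θ ⟨x, hT x.2⟩ ∈ V), ((β ⟨θ ⟨x, hT x.2⟩, hx⟩ : V) : Ω') =
            θ ⟨(α x : T), hT (α x).2⟩ := by
      rintro _ rfl β hβ
      exact h'.aut_bwd hT' hβ
    obtain ⟨α, hα, hαv⟩ := key _ (imageAlong_comp hT le_rfl).symm α' hα'
    obtain ⟨β, hβ, hβT, hβC⟩ := hext α hα
    have hCS : centralizerIn S T ≤ S := Fusion.centralizerIn_le S T
    have hU : T ⊔ centralizerIn S T ≤ S := sup_le hT hCS
    obtain ⟨β', hβ', hβv⟩ := h.aut_fwd hU hβ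
    have hUeq : imageAlong θ (T ⊔ centralizerIn S T) =
        imageAlong θ T ⊔ centralizerIn S' (imageAlong θ T) := by
      rw [imageAlong_sup hT hCS, imageAlong_centralizerIn h hT]
    have fin : ∀ (V : Subgroup Ω') (hV : V = imageAlong θ (T ⊔ centralizerIn S T)),
        ∃ γ ∈ F'.autGroup V, ∀ (x : ↥(T ⊔ centralizerIn S T)) (hx : θ ⟨x, hU x.2⟩ ∈ V),
          ((γ ⟨θ ⟨x, hU x.2⟩, hx⟩ : V) : Ω') =
            θ ⟨(β x : ↥(T ⊔ centralizerIn S T)), hU (β x).2⟩ := by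
      rintro _ rfl
      exact ⟨β', hβ', hβv⟩
    obtain ⟨γ, hγ, hγv⟩ := fin _ hUeq.symm
    refine ⟨γ, hγ, ?_, ?_⟩
    · rintro ⟨_, t, ht, rfl⟩
      have hm : θ t ∈ imageAlong θ T ⊔ centralizerIn S' (imageAlong θ T) :=
        Subgroup.mem_sup_left ⟨t, ht, rfl⟩
      refine ((hγv ⟨t, Subgroup.mem_sup_left ht⟩ hm).trans ?_).trans
        (hαv ⟨t, ht⟩ ⟨t, ht, rfl⟩).symm
      exact congrArg θ (Subtype.ext (hβT ⟨t, ht⟩))
    · rintro ⟨c', hc'U⟩ hc'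
      rw [show (((⟨c', hc'U⟩ : ↥(imageAlong θ T ⊔ centralizerIn S' (imageAlong θ T))) : Ω')) = c' from rfl]
        at hc' ⊢
      rw [← imageAlong_centralizerIn h hT] at hc'
      obtain ⟨c, hc, rfl⟩ := hc'
      rw [hγv ⟨c, Subgroup.mem_sup_right hc⟩ hc'U, ← map_inv, ← map_mul]
      obtain ⟨h1, h2⟩ := Subgroup.mem_inf.1 (hβC ⟨c, Subgroup.mem_sup_right hc⟩ hc)
      refine Subgroup.mem_inf.2 ⟨⟨_, h1, rfl⟩, Subgroup.mem_centralizer_iff.2 ?_⟩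
      rintro _ ⟨t, ht, rfl⟩
      rw [← map_mul, ← map_mul]
      exact congrArg θ (Subtype.ext (Subgroup.mem_centralizer_iff.1 h2 t ht))

/-- The image of a subnormal subsystem is subnormal. -/
theorem isSubnormalIn_image {T U : Subgroup Ω} {E : FusionSystem T} {D : FusionSystem U} {p : ℕ}
    (hsn : E.IsSubnormalIn D p) : Fact p.Prime →
    ∀ {U' : Subgroup Ω'} {D' : FusionSystem U'} {ψ : U →* Ω'}, IsSysIso D D' ψ → Finite U →
      IsPGroup p U →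
      ∃ hT : T ≤ U, ∀ {T' : Subgroup Ω'} {E' : FusionSystem T'},
        IsSysIso E E' (ψ.comp (Subgroup.inclusion hT)) → E'.IsSubnormalIn D' p := by
  induction hsn with
  | refl G q =>
    intro _ U' D' ψ hψ _ _
    refine ⟨le_rfl, fun {T' E'} hE' => ?_⟩
    obtain rfl : T' = U' := by
      rw [← hE'.range_eq, range_comp_inclusion le_rfl, hψ.image_self]
    have hc : ψ.comp (Subgroup.inclusion le_rfl) = ψ := MonoidHom.ext fun x => rfl
    rw [hc] at hE'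
    rw [hE'.eq hψ]
    exact IsSubnormalIn.refl _ _
  | step hsn hnorm ih =>
    intro hprime U' D' ψ hψ hfin hp
    have hM := hnorm.1.2.2.2.1.1
    obtain ⟨M', hM'⟩ := exists_restrict hψ hM _
    obtain ⟨hT, hT'⟩ := ih hprime hM' (Fusion.finite_of_le hM) (hp.to_le hM)
    exact ⟨hT.trans hM, fun {T' E'} hE' =>
      IsSubnormalIn.step (hT' hE') (isNormalIn_image hp hψ hM hnorm hM')⟩

end CfsgLib.FusionTransport
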