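/-
Simplicity, quasisimplicity and being a component are invariant under isomorphisms of fusion systems.
-/
import Cfsg.Agent.FusionTransport.Normal
import Cfsg.Agent.FusionFactor.Elementary

set_option autoImplicit false

namespace CfsgLib.FusionTransport

open Cfsg Cfsg.FusionSystem CfsgLib.Fusion CfsgLib.FusionFactor

variable {Ω : Type*} [Group Ω] {S : Subgroup Ω} {Ω' : Type*} [Group Ω'] {S' : Subgroup Ω'}
  {F : FusionSystem S} {F' : FusionSystem S'} {θ : S →* Ω'}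

theorem IsSysIso.isPGroup {p : ℕ} (h : IsSysIso F F' θ) (hS : IsPGroup p S) : IsPGroup p S' :=
  h.range_eq ▸ hS.of_surjective θ.rangeRestrict θ.rangeRestrict_surjective

theorem IsSysIso.finite [Finite S] (h : IsSysIso F F' θ) : Finite S' :=
  h.range_eq ▸ (Finite.of_surjective _ θ.rangeRestrict_surjective)

theorem map_pResidual_le {p : ℕ} {G H : Type*} [Group G] [Group H] (f : G →* H) :
    (pResidual p G).map f ≤ pResidual p H := by
  rw [pResidual, MonoidHom.map_closure]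
  refine Subgroup.closure_mono ?_
  rintro _ ⟨g, hg, rfl⟩
  exact Nat.Coprime.coprime_dvd_left (orderOf_map_dvd f g) hg

/-- The isomorphism of a subgroup of `S` onto its image. -/
noncomputable def imageEquiv (hθ : Function.Injective θ) {P : Subgroup Ω} (hP : P ≤ S) :
    P ≃* imageAlong θ P :=
  (Subgroup.subgroupOfEquivOfLe hP).symm.trans ((P.subgroupOf S).equivMapOfInjective θ hθ)

theorem imageEquiv_apply (hθ : Function.Injective θ) {P : Subgroup Ω} (hP : P ≤ S) (x : P) :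
    (imageEquiv hθ hP x : Ω') = θ ⟨x, hP x.2⟩ := rfl

theorem hyperfocalSubgroup_le (F : FusionSystem S) (p : ℕ) : F.hyperfocalSubgroup p ≤ S := by
  rw [FusionSystem.hyperfocalSubgroup, Subgroup.closure_le]
  rintro _ ⟨P, α, x, hP, -, rfl⟩
  exact S.mul_mem (S.inv_mem (hP x.2)) (hP ((α : MulAut P) x).2)

/-- The hyperfocal subgroup is carried into the hyperfocal subgroup. -/
theorem IsSysIso.hyperfocal_le {p : ℕ} (h : IsSysIso F F' θ) :
    imageAlong θ (F.hyperfocalSubgroup p) ≤ F'.hyperfocalSubgroup p := by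
  suffices hle : F.hyperfocalSubgroup p ≤ preimageAlong θ (F'.hyperfocalSubgroup p) by
    rintro _ ⟨s, hs, rfl⟩
    exact (mem_preimageAlong.1 (hle hs)).2
  rw [FusionSystem.hyperfocalSubgroup, Subgroup.closure_le]
  rintro _ ⟨P, α, x, hP, hα, rfl⟩
  set c := MulAut.congr (imageEquiv h.inj hP)
  have hc : ∀ β : F.autGroup P, c (β : MulAut P) ∈ F'.autGroup (imageAlong θ P) := by
    rintro ⟨β, hβ⟩
    obtain ⟨β', hβ', hv⟩ := h.aut_fwd hP hβ
    have e : c β = β' := by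
      refine MulEquiv.ext fun y => ?_
      obtain ⟨z, rfl⟩ := (imageEquiv h.inj hP).surjective y
      refine Subtype.ext ?_
      show (imageEquiv h.inj hP (β ((imageEquiv h.inj hP).symm (imageEquiv h.inj hP z))) : Ω') = _
      rw [MulEquiv.symm_apply_apply]
      exact (hv z (imageEquiv h.inj hP z).2).symm
    exact e ▸ hβ'
  let f : F.autGroup P →* F'.autGroup (imageAlong θ P) :=
    (c.toMonoidHom.comp (F.autGroup P).subtype).codRestrict _ hc
  have hS := S.mul_mem (S.inv_mem (hP x.2)) (hP ((α : MulAut P) x).2)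
  refine mem_preimageAlong.2 ⟨hS, Subgroup.subset_closure
    ⟨imageAlong θ P, f α, imageEquiv h.inj hP x, h.image_le P, map_pResidual_le f ⟨α, hα, rfl⟩, ?_⟩⟩
  show θ ⟨_, hS⟩ = (imageEquiv h.inj hP x : Ω')⁻¹ *
    (imageEquiv h.inj hP ((α : MulAut P) ((imageEquiv h.inj hP).symm (imageEquiv h.inj hP x))) : Ω')
  rw [MulEquiv.symm_apply_apply, imageEquiv_apply, imageEquiv_apply, ← map_inv, ← map_mul]
  rfl

/-- An isomorphism carries the hyperfocal subgroup onto the hyperfocal subgroup. -/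
theorem IsSysIso.hyperfocal_eq {p : ℕ} (h : IsSysIso F F' θ)
    (hF : F.hyperfocalSubgroup p = S) : F'.hyperfocalSubgroup p = S' :=
  le_antisymm (hyperfocalSubgroup_le F' p) (h.image_self.ge.trans ((imageAlong_mono hF.ge).trans h.hyperfocal_le))

/-- The image of a central subgroup is central. -/
theorem IsSysIso.isCentral_image (h : IsSysIso F F' θ) {Q : Subgroup Ω} (hQ : F.IsCentral Q) :
    F'.IsCentral (imageAlong θ Q) := by
  refine ⟨h.image_le Q, fun P' φ' hφ' => ?_⟩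
  have hP' : P' ≤ θ.range := h.range_eq.symm ▸ Fusion.le_left hφ'
  obtain ⟨φ, hφ, hind⟩ := h.bwd P' φ' hφ'
  obtain ⟨ψ, hψ, hψP, hψQ⟩ := hQ.2 _ φ hφ
  obtain ⟨ψ', hψ', hind'⟩ := h.fwd _ ψ hψ
  have hP : preimageAlong θ P' ≤ S := preimageAlong_le _ _
  have heq : P' ⊔ imageAlong θ Q = imageAlong θ (preimageAlong θ P' ⊔ Q) := by
    rw [imageAlong_sup hP hQ.1, imageAlong_preimageAlong hP']
  refine ⟨_, Fusion.restrict_mem hψ' heq.le, fun y => ?_, fun y => ?_⟩
  · obtain ⟨s, hs⟩ := hP' y.2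
    have hsP : (s : Ω) ∈ preimageAlong θ P' := mem_preimageAlong.2 ⟨s.2, by rw [hs]; exact y.2⟩
    have h1 := induced_apply hind' ⟨s, Subgroup.mem_sup_left hsP⟩ s.2 (Fusion.apply_mem hψ _)
      (mem_imageAlong.2 ⟨s, Subgroup.mem_sup_left hsP, rfl⟩)
    have h2 := induced_apply hind ⟨s, hsP⟩ s.2 (Fusion.apply_mem hφ _) (mem_preimageAlong.1 hsP).2
    refine ((congrArg ψ' (Subtype.ext hs.symm)).trans h1).trans ?_
    refine Eq.trans (congrArg θ (Subtype.ext ?_)) (h2.symm.trans (congrArg φ' (Subtype.ext hs)))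
    exact hψP ⟨s, hsP⟩
  · obtain ⟨s, hs, hsy⟩ := y.2
    have h1 := induced_apply hind' ⟨s, Subgroup.mem_sup_right hs⟩ s.2 (Fusion.apply_mem hψ _)
      (mem_imageAlong.2 ⟨s, Subgroup.mem_sup_right hs, rfl⟩)
    refine ((congrArg ψ' (Subtype.ext hsy.symm)).trans h1).trans ?_
    exact Eq.trans (congrArg θ (Subtype.ext (hψQ ⟨s, hs⟩))) hsy

/-- An isomorphism carries the centre onto the centre. -/
theorem IsSysIso.center_eq [Finite S] (h : IsSysIso F F' θ) : imageAlong θ F.center = F'.center := by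
  have hf := h.finite
  refine le_antisymm (le_sSup (h.isCentral_image (isCentral_center F))) fun y hy => ?_
  have hyS : y ∈ S' := (isCentral_center F').1 hy
  obtain ⟨s, rfl⟩ := h.range_eq.ge hyS
  refine ⟨s, ?_, rfl⟩
  have h1 : imageAlong (invHom θ h.inj h.range_eq) F'.center ≤ F.center :=
    le_sSup (h.symm.isCentral_image (isCentral_center F'))
  exact h1 ⟨⟨θ s, hyS⟩, hy, invHom_apply _ _ s hyS⟩

/-- A factor system of an isomorphic copy is a factor system. -/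
theorem isFactorSystem_comp (h : IsSysIso F F' θ) {Z : Subgroup Ω} {Z' : Subgroup Ω'}
    (hZ : Z ≤ S) (hmem : ∀ s : S, θ s ∈ Z' ↔ (s : Ω) ∈ Z) {Ω'' : Type*} [Group Ω'']
    {S'' : Subgroup Ω''} {π : S' →* Ω''} {E : FusionSystem S''} (hE : F'.IsFactorSystem Z' π E) :
    F.IsFactorSystem Z (π.comp (θ.codRestrict S' h.apply_mem)) E := by
  obtain ⟨-, hker, hrange, hHom⟩ := hE
  set θ₂ := π.comp (θ.codRestrict S' h.apply_mem)
  refine ⟨hZ, fun s => (hker _).trans (hmem s), ?_, fun P'' φ'' => ?_⟩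
  · rw [← hrange]
    ext y
    constructor
    · rintro ⟨s, rfl⟩; exact ⟨_, rfl⟩
    · rintro ⟨⟨x, hx⟩, rfl⟩
      obtain ⟨s, rfl⟩ := h.range_eq.ge hx
      exact ⟨s, rfl⟩
  have heq : preimageAlong θ (preimageAlong π P'') = preimageAlong θ₂ P'' := by
    ext x
    rw [mem_preimageAlong, mem_preimageAlong]
    exact ⟨fun ⟨hx, h'⟩ => ⟨hx, (mem_preimageAlong.1 h').2⟩,
      fun ⟨hx, h'⟩ => ⟨hx, mem_preimageAlong.2 ⟨h.apply_mem _, h'⟩⟩⟩
  rw [hHom]
  refine and_congr_right fun _ => ⟨?_, ?_⟩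
  · rintro ⟨χ, hχ, hind⟩
    obtain ⟨φ, hφ, hindθ⟩ := h.bwd _ χ hχ
    refine ⟨_, Fusion.restrict_mem hφ heq.ge, preimageAlong_le _ _, fun x => Fusion.apply_mem hφ _,
      fun x => (mem_preimageAlong.1 x.2).2, fun x => ?_⟩
    have hxθ : (x : Ω) ∈ preimageAlong θ (preimageAlong π P'') := heq.ge x.2
    have h1 := induced_apply hindθ ⟨x, hxθ⟩ (preimageAlong_le _ _ x.2) (Fusion.apply_mem hφ _)
      (mem_preimageAlong.1 hxθ).2
    have h2 := induced_apply hind ⟨_, (mem_preimageAlong.1 hxθ).2⟩ (h.apply_mem _)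
      (Fusion.apply_mem hχ _) (mem_preimageAlong.1 x.2).2
    exact h2.trans (congrArg π (Subtype.ext h1))
  · rintro ⟨φ, hφ, hind⟩
    obtain ⟨χ, hχ, hindθ⟩ := h.fwd _ φ hφ
    have hle : preimageAlong π P'' ≤ imageAlong θ (preimageAlong θ₂ P'') := by
      rw [← heq, imageAlong_preimageAlong (h.range_eq.symm ▸ preimageAlong_le π P'')]
    refine ⟨_, Fusion.restrict_mem hχ hle, preimageAlong_le _ _, fun x => Fusion.apply_mem hχ _,
      fun x => (mem_preimageAlong.1 x.2).2, fun x => ?_⟩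
    obtain ⟨s, hs, hsx⟩ := hle x.2
    have h1 := induced_apply hindθ ⟨s, hs⟩ s.2 (Fusion.apply_mem hφ _) ⟨s, hs, rfl⟩
    have h2 := induced_apply hind ⟨s, hs⟩ s.2 (Fusion.apply_mem hφ _) (mem_preimageAlong.1 hs).2
    refine (congrArg φ'' (Subtype.ext ?_)).trans (h2.trans (congrArg π (Subtype.ext ?_)))
    · exact congrArg π (Subtype.ext hsx.symm)
    · exact h1.symm.trans (congrArg χ (Subtype.ext hsx))

/-- Two factor systems by the same subgroup are isomorphic. -/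
theorem isSysIso_factor {Z : Subgroup Ω} {Ω₁ : Type*} [Group Ω₁] {S₁ : Subgroup Ω₁}
    {Ω₂ : Type*} [Group Ω₂] {S₂ : Subgroup Ω₂} {θ₁ : S →* Ω₁} {θ₂ : S →* Ω₂}
    {E₁ : FusionSystem S₁} {E₂ : FusionSystem S₂} (h₁ : F.IsFactorSystem Z θ₁ E₁)
    (h₂ : F.IsFactorSystem Z θ₂ E₂) (q : S₁ →* Ω₂)
    (hq : ∀ (s : S) (h : θ₁ s ∈ S₁), q ⟨θ₁ s, h⟩ = θ₂ s) : IsSysIso E₁ E₂ q := by
  obtain ⟨-, hker₁, hr₁, hHom₁⟩ := h₁
  obtain ⟨-, hker₂, hr₂, hHom₂⟩ := h₂
  have hm : ∀ s : S, θ₁ s ∈ S₁ := fun s => hr₁ ▸ ⟨s, rfl⟩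
  have hinj : Function.Injective q := by
    refine (injective_iff_map_eq_one q).2 ?_
    rintro ⟨y, hy⟩ h
    obtain ⟨s, rfl⟩ := hr₁.ge hy
    rw [hq] at h
    exact Subtype.ext ((hker₁ s).2 ((hker₂ s).1 h))
  have hrange : q.range = S₂ := by
    ext y
    constructor
    · rintro ⟨⟨y, hy⟩, rfl⟩
      obtain ⟨s, rfl⟩ := hr₁.ge hy
      exact hr₂ ▸ ⟨s, (hq s hy).symm⟩
    · intro hy
      obtain ⟨s, rfl⟩ := hr₂.ge hy
      exact ⟨⟨_, hm s⟩, hq s _⟩
  have hpre : ∀ P₁ : Subgroup Ω₁, P₁ ≤ S₁ →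
      preimageAlong θ₂ (imageAlong q P₁) = preimageAlong θ₁ P₁ := by
    intro P₁ _
    ext x
    rw [mem_preimageAlong, mem_preimageAlong]
    refine exists_congr fun hx => ?_
    rw [← hq ⟨x, hx⟩ (hm _)]
    exact apply_mem_imageAlong_iff hinj
  refine ⟨hinj, hrange, fun P₁ φ₁ hφ₁ => ?_, fun P₂ φ₂ hφ₂ => ?_⟩
  · obtain ⟨hP₁, φ, hφ, hind⟩ := (hHom₁ P₁ φ₁).1 hφ₁
    obtain ⟨φ₂, hind₂⟩ := exists_induced (P' := imageAlong q P₁) hP₁ (Fusion.apply_mem hφ₁)
      (fun x => ⟨⟨x, hP₁ x.2⟩, x.2, rfl⟩)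
      (fun y => by obtain ⟨x, hx, hxy⟩ := y.2; exact ⟨⟨x, hx⟩, hxy⟩)
      (fun x hx => by
        have h1 : x = 1 := Subtype.ext (congrArg Subtype.val (hinj (hx.trans (map_one q).symm)) :)
        simp only [h1, map_one]
        exact map_one q)
    refine ⟨φ₂, (hHom₂ _ φ₂).2 ⟨hrange ▸ imageAlong_le_range P₁, _,
      Fusion.restrict_mem hφ (hpre P₁ hP₁).le, preimageAlong_le _ _, fun x => Fusion.apply_mem hφ _,
      fun x => (mem_preimageAlong.1 x.2).2, fun x => ?_⟩, hind₂⟩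
    have hx₁ : (x : Ω) ∈ preimageAlong θ₁ P₁ := (hpre P₁ hP₁).le x.2
    have h1 := induced_apply hind ⟨x, hx₁⟩ (preimageAlong_le _ _ x.2) (Fusion.apply_mem hφ _)
      (mem_preimageAlong.1 hx₁).2
    have h2 := induced_apply hind₂ ⟨_, (mem_preimageAlong.1 hx₁).2⟩ (hm _) (Fusion.apply_mem hφ₁ _)
      (mem_imageAlong.2 ⟨⟨_, hm _⟩, (mem_preimageAlong.1 hx₁).2, rfl⟩)
    refine (congrArg φ₂ (Subtype.ext (hq _ (hm _)).symm)).trans (h2.trans ?_)
    exact (congrArg q (Subtype.ext h1)).trans (hq _ (hm _))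
  · obtain ⟨hP₂, φ, hφ, hind⟩ := (hHom₂ P₂ φ₂).1 hφ₂
    have heq : preimageAlong θ₁ (preimageAlong q P₂) = preimageAlong θ₂ P₂ := by
      rw [← hpre _ (preimageAlong_le q P₂), imageAlong_preimageAlong (hrange.symm ▸ hP₂)]
    obtain ⟨φ₁, hind₁⟩ := exists_induced (θ := θ₁) (P' := preimageAlong q P₂)
      (preimageAlong_le θ₁ _) (Fusion.apply_mem (Fusion.restrict_mem hφ heq.le))
      (fun x => (mem_preimageAlong.1 x.2).2)
      (fun y => by
        obtain ⟨s, hs⟩ := hr₁.ge ((mem_preimageAlong.1 y.2).1)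
        exact ⟨⟨s, mem_preimageAlong.2 ⟨s.2, by rw [hs]; exact y.2⟩⟩, hs⟩)
      (fun x hx => (hker₁ _).2 ((hker₂ _).1 (by
        have hx₂ : (x : Ω) ∈ preimageAlong θ₂ P₂ := heq.le x.2
        have h1 := induced_apply hind ⟨x, hx₂⟩ (preimageAlong_le _ _ hx₂) (Fusion.apply_mem hφ _)
          (mem_preimageAlong.1 hx₂).2
        refine h1.symm.trans ?_
        have h0 : (⟨θ₂ ⟨x, preimageAlong_le _ _ hx₂⟩, (mem_preimageAlong.1 hx₂).2⟩ : P₂) = 1 :=
          Subtype.ext ((hker₂ _).2 ((hker₁ _).1 hx))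
        rw [h0, map_one])))
    have hφ₁ : φ₁ ∈ E₁.Hom _ :=
      (hHom₁ _ φ₁).2 ⟨preimageAlong_le _ _, _, Fusion.restrict_mem hφ heq.le, hind₁⟩
    refine ⟨φ₁, hφ₁, preimageAlong_le _ _, Fusion.apply_mem hφ₁,
      fun y => (mem_preimageAlong.1 y.2).2, fun y => ?_⟩
    obtain ⟨s, hs⟩ := hr₁.ge ((mem_preimageAlong.1 y.2).1)
    have hs₁ : (s : Ω) ∈ preimageAlong θ₁ (preimageAlong q P₂) :=
      mem_preimageAlong.2 ⟨s.2, by rw [hs]; exact y.2⟩
    have h1 := induced_apply hind₁ ⟨s, hs₁⟩ s.2 (Fusion.apply_mem (Fusion.restrict_mem hφ heq.le) _)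
      (mem_preimageAlong.1 hs₁).2
    have h2 := induced_apply hind ⟨s, heq.le hs₁⟩ s.2 (Fusion.apply_mem hφ _)
      (mem_preimageAlong.1 (heq.le hs₁)).2
    have hqy : q ⟨y, (mem_preimageAlong.1 y.2).1⟩ = θ₂ s :=
      (congrArg q (Subtype.ext hs.symm)).trans (hq s (hm s))
    refine (congrArg φ₂ (Subtype.ext hqy)).trans (h2.trans ?_)
    refine Eq.trans (hq _ (hm _)).symm (congrArg q (Subtype.ext ?_))
    exact (h1.symm).trans (congrArg φ₁ (Subtype.ext hs))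

/-- An isomorphic copy of a simple system is simple. -/
theorem IsSysIso.isSimple [Finite S] {p : ℕ} [Fact p.Prime] (h : IsSysIso F F' θ)
    (hS : IsPGroup p S) (hF : F.IsSimple p) : F'.IsSimple p := by
  have hfin := h.finite
  obtain ⟨hsat, hne, hall⟩ := hF
  refine ⟨h.isSaturated hS hsat, ?_, fun T N hN => ?_⟩
  · intro hb
    refine hne ((Subgroup.eq_bot_iff_forall _).2 fun x hx => ?_)
    have h1 : θ ⟨x, hx⟩ = 1 := Subgroup.mem_bot.1 (hb ▸ h.apply_mem ⟨x, hx⟩)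
    exact congrArg Subtype.val (h.inj (h1.trans (map_one θ).symm))
  have hT : T ≤ S' := hN.1.2.2.2.1.1
  obtain ⟨N₀, hN₀⟩ := exists_restrict h.symm hT N
  have hn := isNormalIn_image (h.isPGroup hS) h.symm hT hN hN₀
  rcases hall _ N₀ hn with hb | ⟨he, hHom⟩
  · refine Or.inl ((Subgroup.eq_bot_iff_forall _).2 fun y hy => ?_)
    have h1 : invHom θ h.inj h.range_eq ⟨y, hT hy⟩ = 1 :=
      Subgroup.mem_bot.1 (hb ▸ ⟨⟨y, hT hy⟩, hy, rfl⟩)
    exact congrArg Subtype.val (h.symm.inj (h1.trans (map_one _).symm))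
  · obtain rfl : T = S' := by
      refine le_antisymm hT fun y hy => ?_
      obtain ⟨z, hz, hzy⟩ := he.ge ((h.symm.apply_mem ⟨y, hy⟩))
      have e : (z : Ω') = y := congrArg Subtype.val (h.symm.inj hzy)
      exact e ▸ Subgroup.mem_subgroupOf.1 hz
    refine Or.inr ⟨rfl, fun P => ?_⟩
    have key : ∀ (U : Subgroup Ω) (N₁ : FusionSystem U), U = S →
        (∀ P, N₁.Hom P = F.Hom P) → IsSysIso N N₁ (invHom θ h.inj h.range_eq) →
        IsSysIso N F (invHom θ h.inj h.range_eq) := by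
      rintro U N₁ rfl h1 h2
      exact ext_of_hom h1 ▸ h2
    have h2 : IsSysIso N F (invHom θ h.inj h.range_eq) := key _ N₀ he hHom hN₀
    exact congrArg (fun G : FusionSystem T => G.Hom P) (h2.symm.eq h.symm.symm)

/-- An isomorphic copy of a quasisimple system is quasisimple. -/
theorem IsSysIso.quasisimple [Finite S] {p : ℕ} [Fact p.Prime] (h : IsSysIso F F' θ)
    (hS : IsPGroup p S) (hF : F.Quasisimple p) : F'.Quasisimple p := by
  obtain ⟨hsat, hhyp, hquot⟩ := hF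
  refine ⟨h.isSaturated hS hsat, h.hyperfocal_eq hhyp, fun E hE => ?_⟩
  have hZ : ∀ s : S, θ s ∈ F'.center ↔ (s : Ω) ∈ F.center := fun s => by
    rw [← h.center_eq]; exact apply_mem_imageAlong_iff h.inj
  have hcomp := isFactorSystem_comp h (isCentral_center F).1 hZ hE
  have hsc : F.StronglyClosed F.center := by
    refine ⟨(isCentral_center F).1, fun R hR φ hφ x => ?_⟩
    obtain ⟨ψ, -, hψR, hψZ⟩ := (isCentral_center F).2 R φ hφ
    rw [← hψR x, show (Subgroup.inclusion (le_sup_left : R ≤ R ⊔ F.center) x) =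
      Subgroup.inclusion (le_sup_right : F.center ≤ R ⊔ F.center) ⟨x, hR x.2⟩ from Subtype.ext rfl, hψZ]
    exact hR x.2
  obtain ⟨E₀, hE₀⟩ := exists_factorSystem_quotient F F.center hsc
  set θ₂ := (QuotientGroup.mk' (F'.center.subgroupOf S')).comp (θ.codRestrict S' h.apply_mem)
  let q : (⊤ : Subgroup (S ⧸ F.center.subgroupOf S)) →* S' ⧸ F'.center.subgroupOf S' :=
    (QuotientGroup.lift (F.center.subgroupOf S) θ₂ fun s hs =>
      MonoidHom.mem_ker.2 ((hcomp.2.1 s).2 (Subgroup.mem_subgroupOf.1 hs))).comp (Subgroup.subtype ⊤)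
  have hiso : IsSysIso E₀ E q := isSysIso_factor hE₀ hcomp q fun s _ => rfl
  refine hiso.isSimple ?_ (hquot E₀ hE₀)
  exact (hS.of_surjective _ (QuotientGroup.mk'_surjective (F.center.subgroupOf S))).to_subgroup _

end CfsgLib.FusionTransport
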