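/-
The image of a component under a map of the system is a component.
-/
import Cfsg.Agent.FusionTransport.Components

set_option autoImplicit false

namespace CfsgLib.FusionTransport

open Cfsg Cfsg.FusionSystem CfsgLib.Fusion CfsgLib.FusionFactor

variable {Ω : Type*} [Group Ω] {S : Subgroup Ω}

/-- A system is preserved by its automorphisms of `S`. -/
theorem isSysIso_self (F : FusionSystem S) [Finite S] {γ : S →* Ω} (hγ : γ ∈ F.Hom S) :
    IsSysIso F F γ := by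
  have hrange : γ.range = S := eq_S_of_isConj ⟨γ, hγ, rfl⟩
  have hinj := F.injective_of_mem hγ
  refine ⟨hinj, hrange, fun P φ hφ => ?_, fun P' φ' hφ' => ?_⟩
  · have hP : P ≤ S := Fusion.le_left hφ
    obtain ⟨e, he, hev⟩ := exists_iso (Q := imageAlong γ P) (Fusion.restrict_mem hγ hP) (by
      ext y
      exact ⟨fun ⟨x, hxy⟩ => ⟨⟨x, hP x.2⟩, x.2, hxy⟩, fun ⟨x, hx, hxy⟩ => ⟨⟨x, hx⟩, hxy⟩⟩)
    refine ⟨_, he.symm.comp_hom (F.comp_mem hφ hγ (Fusion.apply_mem hφ)), hP, Fusion.apply_mem hφ,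
      fun x => ⟨⟨x, hP x.2⟩, x.2, rfl⟩, fun x => ?_⟩
    have : e.symm ⟨γ ⟨x, hP x.2⟩, ⟨⟨x, hP x.2⟩, x.2, rfl⟩⟩ = x :=
      e.injective (by rw [MulEquiv.apply_symm_apply]; exact Subtype.ext (hev x).symm)
    show γ ⟨φ (e.symm _), _⟩ = _
    simp only [this]
  · have hP' : P' ≤ S := Fusion.le_left hφ'
    obtain ⟨e₀, he₀, he₀v⟩ := exists_iso hγ hrange
    have hle : preimageAlong γ P' ≤ S := preimageAlong_le _ _
    have hmem : ∀ x : preimageAlong γ P', restrictHom γ hle x ∈ P' :=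
      fun x => (mem_preimageAlong.1 x.2).2
    have h1 := F.comp_mem (Fusion.restrict_mem hγ hle) hφ' hmem
    have h2 := F.comp_mem h1 he₀.symm (fun x => Fusion.apply_mem h1 x)
    refine ⟨_, h2, hle, Fusion.apply_mem h2, hmem, fun x => ?_⟩
    set w : S := ⟨φ' ⟨γ ⟨x, hle x.2⟩, hmem x⟩, Fusion.apply_mem hφ' _⟩
    show φ' ⟨γ ⟨x, hle x.2⟩, hmem x⟩ = γ (e₀.symm w)
    exact ((congrArg Subtype.val (e₀.apply_symm_apply w)).symm).trans (he₀v (e₀.symm w))

/-- An invariant subsystem is preserved by the automorphisms of its subgroup. -/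
theorem isSysIso_of_invariant {U : Subgroup Ω} {D : FusionSystem U} {F : FusionSystem S}
    (hD : D.IsInvariantIn F) {α : MulAut U} (hα : α ∈ F.autGroup U) :
    IsSysIso D D (U.subtype.comp α.toMonoidHom) := by
  obtain ⟨-, -, hinv, -⟩ := hD
  refine ⟨fun a b hab => α.injective (Subtype.ext hab), ?_, fun P φ hφ => ?_, fun P' φ' hφ' => ?_⟩
  · ext y
    exact ⟨fun ⟨x, hx⟩ => hx ▸ (α x).2, fun hy => ⟨α.symm ⟨y, hy⟩, congrArg Subtype.val (α.apply_symm_apply ⟨y, hy⟩)⟩⟩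
  · have hP : P ≤ U := Fusion.le_left hφ
    obtain ⟨χ, hχ, hv⟩ := hinv P hP φ hφ α hα
    exact ⟨χ, hχ, hP, Fusion.apply_mem hφ, fun x => ⟨⟨x, hP x.2⟩, x.2, rfl⟩,
      fun x => hv x (Fusion.apply_mem hφ x) _⟩
  · have hP' : P' ≤ U := Fusion.le_left hφ'
    obtain ⟨χ, hχ, hv⟩ := hinv P' hP' φ' hφ' α⁻¹ ((F.autGroup U).inv_mem hα)
    have hle : preimageAlong (U.subtype.comp α.toMonoidHom) P' ≤
        (P'.subgroupOf U).map (U.subtype.comp (α⁻¹).toMonoidHom) := by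
      intro x hx
      obtain ⟨hxU, hx'⟩ := mem_preimageAlong.1 hx
      exact ⟨α ⟨x, hxU⟩, hx', congrArg Subtype.val (α.symm_apply_apply ⟨x, hxU⟩)⟩
    refine ⟨_, Fusion.restrict_mem hχ hle, preimageAlong_le _ _, fun x => Fusion.apply_mem hχ _,
      fun x => (mem_preimageAlong.1 x.2).2, fun x => ?_⟩
    obtain ⟨hxU, hx'⟩ := mem_preimageAlong.1 x.2
    have e : ((α⁻¹ : MulAut U) ⟨α ⟨x, hxU⟩, (α ⟨x, hxU⟩).2⟩ : Ω) = x :=
      congrArg Subtype.val (α.symm_apply_apply ⟨x, hxU⟩)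
    have h1 := hv ⟨_, hx'⟩ (Fusion.apply_mem hφ' _) (hle (e.symm ▸ x.2))
    have h2 : restrictHom χ hle x =
        (((α⁻¹ : MulAut U) ⟨φ' ⟨_, hx'⟩, Fusion.apply_mem hφ' _⟩ : U) : Ω) :=
      (congrArg χ (Subtype.ext e.symm)).trans h1
    show φ' ⟨_, hx'⟩ = ((α ⟨restrictHom χ hle x, _⟩ : U) : Ω)
    simp only [h2]
    exact (congrArg Subtype.val (α.apply_symm_apply ⟨φ' ⟨_, hx'⟩, Fusion.apply_mem hφ' _⟩)).symm

/-- The image of a subnormal subsystem under a map of the system is subnormal. -/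
theorem isSubnormalIn_conjugate {T : Subgroup Ω} {C : FusionSystem T} {F : FusionSystem S} {p : ℕ}
    (hsn : C.IsSubnormalIn F p) : Fact p.Prime → Finite S → IsPGroup p S → T ≤ S ∧
    ∀ γ : T →* Ω, γ ∈ F.Hom T → ∀ {T' : Subgroup Ω} (E : FusionSystem T'),
      C.IsFactorSystem ⊥ γ E → E.IsSubnormalIn F p := by
  induction hsn with
  | @refl G q =>
    intro _ hfin _
    refine ⟨le_rfl, fun γ hγ T' E hE => ?_⟩
    have h0 := isSysIso_self G hγ
    obtain rfl : T' = T := hE.2.2.1.symm.trans h0.range_eq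
    rw [(of_isFactorSystem hE).eq h0]
    exact IsSubnormalIn.refl _ _
  | @step U S₀ C₀ D G q hsn hnorm ih =>
    intro hprime hfin hp
    have hU : U ≤ S₀ := hnorm.1.2.2.2.1.1
    have hfU : Finite U := Fusion.finite_of_le hU
    obtain ⟨hTU, hTU'⟩ := ih hprime hfU (hp.to_le hU)
    refine ⟨hTU.trans hU, fun γ hγ T' E hE => ?_⟩
    obtain ⟨α, hα, φ₀, hφ₀, hv⟩ := hnorm.1.2.2.2.2.2 T hTU γ hγ
    have hfT : Finite T := Fusion.finite_of_le hTU
    obtain ⟨E₀, hE₀⟩ := exists_image C₀ φ₀ (D.injective_of_mem hφ₀)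
    have hsn₀ := hTU' φ₀ hφ₀ E₀ hE₀
    obtain ⟨hR, hR'⟩ := isSubnormalIn_image hsn₀ hprime (isSysIso_of_invariant hnorm.1.2.2 hα) hfU
      (hp.to_le hU)
    refine IsSubnormalIn.step (hR' (isSysIso_factor hE₀ hE _ fun s h => ?_)) hnorm
    exact (hv s (Fusion.apply_mem hφ₀ s)).symm

/-- The image of a component under a map of the system is a component. -/
theorem isComponentIn_conjugate [Finite S] {p : ℕ} [hprime : Fact p.Prime] (hS : IsPGroup p S)
    {F : FusionSystem S} {T : Subgroup Ω} {C : FusionSystem T} (hC : C.IsComponentIn F p)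
    {γ : T →* Ω} (hγ : γ ∈ F.Hom T) {T' : Subgroup Ω} {E : FusionSystem T'}
    (hE : C.IsFactorSystem ⊥ γ E) : E.IsComponentIn F p := by
  obtain ⟨hT, h⟩ := isSubnormalIn_conjugate hC.1 hprime inferInstance hS
  have hfT : Finite T := Fusion.finite_of_le hT
  exact ⟨h γ hγ E hE, (of_isFactorSystem hE).quasisimple (hS.to_le hT) hC.2⟩

end CfsgLib.FusionTransport
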